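import Mathlib.GroupTheory.Sylow
import Mathlib.Data.Nat.Factorization.Basic

/-!
Finite subgroups given by multiplication tables, and Sylow subgroups recognised by their order.
-/

set_option autoImplicit false

namespace Cfsg.Agent.SylTwoSix

variable {G H : Type*} [Group G] [Group H] {N k : ℕ} [NeZero N]

/-- A tree structure on `Fin N` under the step maps: every index is reached from `0`. -/
def Reaches (σ : Fin k → Fin N → Fin N) : Prop :=
  ∀ x : Fin N, x ≠ 0 → ∃ i y, y.val < x.val ∧ σ i y = x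

theorem exists_word {σ : Fin k → Fin N → Fin N} (hσ : Reaches σ) (x : Fin N) :
    ∃ l : List (Fin k), l.foldr σ 0 = x := by
  induction h : x.val using Nat.strong_induction_on generalizing x with
  | _ n ih =>
    by_cases hx : x = 0
    · exact ⟨[], hx.symm⟩
    obtain ⟨i, y, hy, he⟩ := hσ x hx
    obtain ⟨l, hl⟩ := ih y.val (h ▸ hy) y rfl
    exact ⟨i :: l, by rw [List.foldr_cons, hl, he]⟩

/-- A table of elements `e`, on which the elements `g` act by left multiplication through `σ`. -/
structure IsTable (σ : Fin k → Fin N → Fin N) (g : Fin k → G) (e : Fin N → G) : Prop where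
  one : e 0 = 1
  step : ∀ i x, g i * e x = e (σ i x)

variable {σ : Fin k → Fin N → Fin N} {g : Fin k → G} {e : Fin N → G}
  {h : Fin k → H} {f : Fin N → H}

theorem IsTable.prod_mul (ht : IsTable σ g e) (l : List (Fin k)) (x : Fin N) :
    (l.map g).prod * e x = e (l.foldr σ x) := by
  induction l with
  | nil => simp
  | cons a l ih => rw [List.map_cons, List.prod_cons, mul_assoc, ih, ht.step, List.foldr_cons]

theorem IsTable.eq_prod (ht : IsTable σ g e) {l : List (Fin k)} {x : Fin N}
    (hl : l.foldr σ 0 = x) : e x = (l.map g).prod := by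
  rw [← hl, ← ht.prod_mul l 0, ht.one, mul_one]

theorem IsTable.mul_eq (ht : IsTable σ g e) {l : List (Fin k)} {x : Fin N}
    (hl : l.foldr σ 0 = x) (y : Fin N) : e x * e y = e (l.foldr σ y) := by
  rw [ht.eq_prod hl, ht.prod_mul]

variable [Finite G] [Finite H]

/-- The subgroup carried by a table. -/
def IsTable.toSubgroup (ht : IsTable σ g e) (hσ : Reaches σ) : Subgroup G :=
    { carrier := Set.range e
      one_mem' := ⟨0, ht.one⟩
      mul_mem' := by
        rintro _ _ ⟨x, rfl⟩ ⟨y, rfl⟩
        obtain ⟨l, hl⟩ := exists_word hσ x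
        exact ⟨l.foldr σ y, (ht.mul_eq hl y).symm⟩
      inv_mem' := by
        rintro a ⟨x, rfl⟩
        have hp : ∀ n : ℕ, e x ^ n ∈ Set.range e := by
          intro n
          induction n with
          | zero => exact ⟨0, by rw [pow_zero, ht.one]⟩
          | succ n ih =>
            obtain ⟨y, hy⟩ := ih
            obtain ⟨l, hl⟩ := exists_word hσ y
            exact ⟨l.foldr σ x, by rw [pow_succ, ← hy, ht.mul_eq hl]⟩
        have hinv : (e x)⁻¹ = e x ^ (orderOf (e x) - 1) := by
          refine inv_eq_of_mul_eq_one_right ?_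
          rw [← pow_succ', Nat.sub_add_cancel (orderOf_pos (e x)), pow_orderOf_eq_one]
        rw [hinv]
        exact hp _ }

theorem IsTable.mem_toSubgroup (ht : IsTable σ g e) (hσ : Reaches σ) {a : G} :
    a ∈ ht.toSubgroup hσ ↔ ∃ x, e x = a := Iff.rfl

theorem IsTable.toSubgroup_le (ht : IsTable σ g e) (hσ : Reaches σ) {K : Subgroup G}
    (hg : ∀ i, g i ∈ K) : ht.toSubgroup hσ ≤ K := by
  intro a ha
  obtain ⟨x, rfl⟩ := (ht.mem_toSubgroup hσ).1 ha
  obtain ⟨l, hl⟩ := exists_word hσ x
  rw [ht.eq_prod hl]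
  refine K.list_prod_mem fun b hb => ?_
  obtain ⟨i, -, rfl⟩ := List.mem_map.1 hb
  exact hg i

/-- The elements of an injective table, as the subgroup it carries. -/
noncomputable def IsTable.equivFin (ht : IsTable σ g e) (hσ : Reaches σ)
    (hinj : Function.Injective e) : Fin N ≃ ↥(ht.toSubgroup hσ) :=
  Equiv.ofBijective (fun x => ⟨e x, (ht.mem_toSubgroup hσ).2 ⟨x, rfl⟩⟩)
    ⟨fun x y hxy => hinj (congrArg Subtype.val hxy), fun a => by
      obtain ⟨x, hx⟩ := (ht.mem_toSubgroup hσ).1 a.2
      exact ⟨x, Subtype.ext hx⟩⟩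

theorem IsTable.card_toSubgroup (ht : IsTable σ g e) (hσ : Reaches σ)
    (hinj : Function.Injective e) : Nat.card ↥(ht.toSubgroup hσ) = N := by
  rw [← Nat.card_congr (ht.equivFin hσ hinj), Nat.card_fin]

theorem IsTable.mulEquiv (ht : IsTable σ g e) (hu : IsTable σ h f) (hσ : Reaches σ)
    (he : Function.Injective e) (hf : Function.Injective f) :
    Nonempty (↥(ht.toSubgroup hσ) ≃* ↥(hu.toSubgroup hσ)) := by
  refine ⟨⟨(ht.equivFin hσ he).symm.trans (hu.equivFin hσ hf), fun a b => ?_⟩⟩
  obtain ⟨x, rfl⟩ := (ht.equivFin hσ he).surjective a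
  obtain ⟨y, rfl⟩ := (ht.equivFin hσ he).surjective b
  obtain ⟨l, hl⟩ := exists_word hσ x
  have hxy : ht.equivFin hσ he x * ht.equivFin hσ he y = ht.equivFin hσ he (l.foldr σ y) :=
    Subtype.ext (ht.mul_eq hl y)
  rw [Equiv.toFun_as_coe, hxy]
  simp only [Equiv.trans_apply, Equiv.symm_apply_apply]
  exact Subtype.ext (hu.mul_eq hl y).symm

/-- Sylow subgroups of two groups are isomorphic when the groups contain isomorphic subgroups
of the common Sylow order. -/
theorem sylow_iso {p : ℕ} [Fact p.Prime] {n : ℕ} (S : Subgroup G) (T : Subgroup H)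
    (hST : Nonempty (↥S ≃* ↥T)) (hS : Nat.card S = p ^ n)
    (hG : (Nat.card G).factorization p = n) (hH : (Nat.card H).factorization p = n)
    (P : Sylow p G) (Q : Sylow p H) : Nonempty (↥(P : Subgroup G) ≃* ↥(Q : Subgroup H)) := by
  obtain ⟨u⟩ := hST
  have hT : Nat.card T = p ^ n := (Nat.card_congr u.toEquiv).symm.trans hS
  let P' : Sylow p G := Sylow.ofCard S (hG.symm ▸ hS)
  let Q' : Sylow p H := Sylow.ofCard T (hH.symm ▸ hT)
  exact ⟨(P.equiv P').trans (u.trans (Q'.equiv Q))⟩

theorem factorization_two (k m : ℕ) (hm : ¬ 2 ∣ m) : (2 ^ k * m).factorization 2 = k := by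
  have h0 : m ≠ 0 := by
    rintro rfl
    exact hm (dvd_zero 2)
  rw [Nat.factorization_mul (pow_ne_zero _ two_ne_zero) h0, Finsupp.add_apply,
    Nat.Prime.factorization_pow Nat.prime_two, Finsupp.single_eq_same,
    Nat.factorization_eq_zero_of_not_dvd hm, add_zero]

/-- A subgroup inside `K`, viewed as a subgroup of `K`. -/
theorem subgroupOf_iso {S K : Subgroup G} (hle : S ≤ K) : Nonempty (↥(S.subgroupOf K) ≃* ↥S) :=
  ⟨Subgroup.subgroupOfEquivOfLe hle⟩

end Cfsg.Agent.SylTwoSix
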