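import Mathlib.GroupTheory.Perm.Sign
import Mathlib.LinearAlgebra.Matrix.Notation
import Cfsg.Agent.SylTwoSix.Table

/-!
Reading the tables: step maps and permutations of eight points.
-/

set_option autoImplicit false

namespace Cfsg.Agent.SylTwoSix

variable {N : ℕ} [NeZero N]

/-- The step map of a table. -/
def stepOf (t : List (List ℕ)) (i : Fin 3) (x : Fin N) : Fin N :=
  Fin.ofNat N ((t.getD i.val []).getD x.val 0)

/-- An entry of an index list. -/
def idxOf' (t : List ℕ) (x : Fin N) : Fin N := Fin.ofNat N (t.getD x.val 0)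

theorem reaches_of_check {t par : List (List ℕ)}
    (h : ∀ x : Fin N, x ≠ 0 →
      (Fin.ofNat N ((par.getD x.val []).getD 1 0)).val < x.val ∧
        stepOf t (Fin.ofNat 3 ((par.getD x.val []).getD 0 0))
          (Fin.ofNat N ((par.getD x.val []).getD 1 0)) = x) :
    Reaches (stepOf (N := N) t) :=
  fun x hx => ⟨_, _, (h x hx).1, (h x hx).2⟩

/-- A point function read from a table. -/
def pointFn (t : List (List ℕ)) (x : Fin N) (j : Fin 8) : Fin 8 :=
  Fin.ofNat 8 ((t.getD x.val []).getD j.val 0)

/-- The permutation in row `x` of a table whose inverses are indexed by `nu`. -/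
def permOf (t : List (List ℕ)) (nu : List ℕ)
    (h : ∀ x : Fin N, ∀ j, pointFn t (idxOf' nu x) (pointFn t x j) = j ∧
      pointFn t x (pointFn t (idxOf' nu x) j) = j) (x : Fin N) : Equiv.Perm (Fin 8) :=
  ⟨pointFn t x, pointFn t (idxOf' nu x), fun j => (h x j).1, fun j => (h x j).2⟩

/-- The position of a point function in the table. -/
def pointIdx (t : List (List ℕ)) (f : Fin 8 → Fin 8) : ℕ :=
  t.idxOf ((List.finRange 8).map fun j => (f j).val)

theorem permOf_injective {t : List (List ℕ)} {nu : List ℕ}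
    (h : ∀ x : Fin N, ∀ j, pointFn t (idxOf' nu x) (pointFn t x j) = j ∧
      pointFn t x (pointFn t (idxOf' nu x) j) = j)
    (hd : ∀ x : Fin N, pointIdx t (pointFn t x) = x.val) :
    Function.Injective (permOf t nu h) := by
  intro x y hxy
  have e : pointFn t x = pointFn t y := congrArg (fun p : Equiv.Perm (Fin 8) => (p : Fin 8 → Fin 8)) hxy
  exact Fin.ext (by rw [← hd x, ← hd y, e])

theorem permOf_isTable {t s : List (List ℕ)} {nu : List ℕ}
    (h : ∀ x : Fin N, ∀ j, pointFn t (idxOf' nu x) (pointFn t x j) = j ∧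
      pointFn t x (pointFn t (idxOf' nu x) j) = j)
    (gi : Fin 3 → Fin N)
    (h0 : ∀ j, pointFn t (0 : Fin N) j = j)
    (hs : ∀ (i : Fin 3) (x : Fin N) (j : Fin 8),
      pointFn t (gi i) (pointFn t x j) = pointFn t (stepOf s i x) j) :
    IsTable (stepOf (N := N) s) (fun i => permOf (N := N) t nu h (gi i)) (permOf t nu h) :=
  ⟨Equiv.ext h0, fun i x => Equiv.ext (hs i x)⟩

end Cfsg.Agent.SylTwoSix
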