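import Cfsg.Prelude.Def_Classical
import Cfsg.Agent.SylTwoSix.Data
import Cfsg.Agent.SylTwoSix.Read
import Cfsg.Agent.S0288

/-!
The Sylow 2-subgroups of `S_8` and `O_6^-(2)`.
-/

set_option autoImplicit false

namespace Cfsg.Agent.SylTwoSix

open Matrix

abbrev I6 : Type := (Fin 2 ⊕ Fin 2) ⊕ Fin 2

def pos6 : I6 → ℕ := Sum.elim (Sum.elim (fun i => i.val) (fun i => 2 + i.val)) (fun i => 4 + i.val)

/-- The matrix in row `x`; each entry of the table is a row read in base two. -/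
def mat6 (x : Fin 128) : Matrix I6 I6 (ZMod 2) :=
  fun i j => Fin.ofNat 2 ((imgO.getD x.val []).getD (pos6 i) 0 / 2 ^ pos6 j)

def code6 (A : Matrix I6 I6 (ZMod 2)) : List ℕ :=
  let ix : List I6 := [.inl (.inl 0), .inl (.inl 1), .inl (.inr 0), .inl (.inr 1), .inr 0, .inr 1]
  ix.map fun i => (ix.map fun j => ZMod.val (A i j) * 2 ^ pos6 j).sum

def genO (i : Fin 3) : Fin 128 := Fin.ofNat 128 (i.val + 1)

set_option maxRecDepth 100000 in
theorem permO_inv : ∀ x : Fin 128, ∀ j, pointFn permO (idxOf' invO x) (pointFn permO x j) = j ∧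
    pointFn permO x (pointFn permO (idxOf' invO x) j) = j := by decide +kernel

theorem permO_idx : ∀ x : Fin 128, pointIdx permO (pointFn permO x) = x.val := by decide +kernel

theorem permO_one : ∀ j, pointFn permO (0 : Fin 128) j = j := by decide +kernel

theorem permO_step : ∀ i : Fin 3, ∀ x : Fin 128, ∀ j,
    pointFn permO (genO i) (pointFn permO x j) = pointFn permO (stepOf stepO i x) j := by
  decide +kernel

theorem stepO_reaches : ∀ x : Fin 128, x ≠ 0 →
    (Fin.ofNat 128 ((parO.getD x.val []).getD 1 0)).val < x.val ∧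
      stepOf stepO (Fin.ofNat 3 ((parO.getD x.val []).getD 0 0))
        (Fin.ofNat 128 ((parO.getD x.val []).getD 1 0)) = x := by decide +kernel

theorem mat6_one : mat6 0 = 1 := by decide +kernel

theorem mat6_step : ∀ i : Fin 3, ∀ x : Fin 128,
    mat6 (genO i) * mat6 x = mat6 (stepOf stepO i x) := by decide +kernel

theorem mat6_inv : ∀ x : Fin 128,
    mat6 x * mat6 (idxOf' invO x) = 1 ∧ mat6 (idxOf' invO x) * mat6 x = 1 := by decide +kernel

theorem mat6_idx : ∀ x : Fin 128, imgO.idxOf (code6 (mat6 x)) = x.val := by decide +kernel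

theorem mat6_isom : ∀ i : Fin 3, ∀ u : I6 → ZMod 2,
    Cfsg.quadFormMinus 2 (ZMod 2) 1 1 (mat6 (genO i) *ᵥ u) =
      Cfsg.quadFormMinus 2 (ZMod 2) 1 1 u := by decide +kernel

def evO (x : Fin 128) : Equiv.Perm (Fin 8) := permOf permO invO permO_inv x

theorem reaches_O : Reaches (stepOf (N := 128) stepO) := reaches_of_check stepO_reaches

theorem evO_table : IsTable (stepOf stepO) (fun i => evO (genO i)) evO :=
  permOf_isTable permO_inv genO permO_one permO_step

theorem binary_anisotropic_two : ∀ a b : ZMod 2,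
    (∀ z₁ z₂ : ZMod 2, z₁ ^ 2 + a * z₁ * z₂ + b * z₂ ^ 2 = 0 → z₁ = 0 ∧ z₂ = 0) →
      a = 1 ∧ b = 1 := by decide +kernel

section

variable {K : Type} [Field K] (ψ : ZMod 2 →+* K)

/-- The element in row `x`. -/
def glOf (x : Fin 128) : Matrix.GeneralLinearGroup I6 K where
  val := (mat6 x).map ψ
  inv := (mat6 (idxOf' invO x)).map ψ
  val_inv := by rw [← Matrix.map_mul, (mat6_inv x).1, Matrix.map_one ψ (map_zero ψ) (map_one ψ)]
  inv_val := by rw [← Matrix.map_mul, (mat6_inv x).2, Matrix.map_one ψ (map_zero ψ) (map_one ψ)]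

theorem glOf_table : IsTable (stepOf stepO) (fun i => glOf ψ (genO i)) (glOf ψ) := by
  refine ⟨Units.ext ?_, fun i x => Units.ext ?_⟩
  · show (mat6 0).map ψ = 1
    rw [mat6_one, Matrix.map_one ψ (map_zero ψ) (map_one ψ)]
  · show (mat6 (genO i)).map ψ * (mat6 x).map ψ = (mat6 (stepOf stepO i x)).map ψ
    rw [← Matrix.map_mul, mat6_step]

theorem glOf_injective : Function.Injective (glOf ψ) := by
  intro x y hxy
  have h : mat6 x = mat6 y :=
    Matrix.map_injective ψ.injective (congrArg Units.val hxy)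
  exact Fin.ext (by rw [← mat6_idx x, ← mat6_idx y, h])

theorem quad_map (a b : ZMod 2) (u : I6 → ZMod 2) :
    Cfsg.quadFormMinus 2 K (ψ a) (ψ b) (ψ ∘ u) = ψ (Cfsg.quadFormMinus 2 (ZMod 2) a b u) := by
  simp only [Cfsg.quadFormMinus, Function.comp_apply, map_add, map_sum, map_mul, map_pow]

theorem glOf_mem (hψ : Function.Surjective ψ) {a b : K} (ha : a = 1) (hb : b = 1) (i : Fin 3) :
    glOf ψ (genO i) ∈ Cfsg.isometryGroup K (Cfsg.quadFormMinus 2 K a b) := by
  subst ha hb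
  intro v _
  show Cfsg.quadFormMinus 2 K 1 1 ((mat6 (genO i)).map ψ *ᵥ v) = Cfsg.quadFormMinus 2 K 1 1 v
  obtain ⟨u, rfl⟩ : ∃ u : I6 → ZMod 2, ψ ∘ u = v :=
    ⟨fun j => (hψ (v j)).choose, funext fun j => (hψ (v j)).choose_spec⟩
  have hmv : (mat6 (genO i)).map ψ *ᵥ (ψ ∘ u) = ψ ∘ (mat6 (genO i) *ᵥ u) :=
    funext fun j => (RingHom.map_mulVec ψ (mat6 (genO i)) u j).symm
  have h := quad_map ψ 1 1
  simp only [map_one] at h
  rw [hmv, h, h, mat6_isom]

end

theorem sylow_S8_O6 (K : Type) [Field K] [Fintype K] (hK : Fintype.card K = 2) (a b : K)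
    (hab : ∀ z₁ z₂ : K, z₁ ^ 2 + a * z₁ * z₂ + b * z₂ ^ 2 = 0 → z₁ = 0 ∧ z₂ = 0)
    (P : Sylow 2 (Equiv.Perm (Fin 8)))
    (Q : Sylow 2 ↥(Cfsg.isometryGroup K (Cfsg.quadFormMinus 2 K a b))) :
    Nonempty (↥(P : Subgroup (Equiv.Perm (Fin 8))) ≃*
      ↥(Q : Subgroup ↥(Cfsg.isometryGroup K (Cfsg.quadFormMinus 2 K a b)))) := by
  have : Fact (Nat.Prime 2) := ⟨Nat.prime_two⟩
  let e := ZMod.ringEquivOfPrime K Nat.prime_two hK
  let ψ : ZMod 2 →+* K := e.toRingHom
  have hψ : Function.Surjective ψ := e.surjective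
  have hab1 : a = 1 ∧ b = 1 := by
    obtain ⟨a', rfl⟩ := hψ a
    obtain ⟨b', rfl⟩ := hψ b
    obtain ⟨rfl, rfl⟩ := binary_anisotropic_two a' b' fun z w hz => by
      have h0 := congrArg ψ hz
      simp only [map_add, map_mul, map_pow, map_zero] at h0
      have h := hab (ψ z) (ψ w) h0
      exact ⟨ψ.injective (h.1.trans (map_zero ψ).symm), ψ.injective (h.2.trans (map_zero ψ).symm)⟩
    exact ⟨map_one ψ, map_one ψ⟩
  have hinj : Function.Injective evO := permOf_injective permO_inv permO_idx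
  have hle : (glOf_table ψ).toSubgroup reaches_O ≤
      Cfsg.isometryGroup K (Cfsg.quadFormMinus 2 K a b) :=
    (glOf_table ψ).toSubgroup_le reaches_O (glOf_mem ψ hψ hab1.1 hab1.2)
  obtain ⟨u⟩ := evO_table.mulEquiv (glOf_table ψ) reaches_O hinj (glOf_injective ψ)
  obtain ⟨v⟩ := subgroupOf_iso hle
  have hcS : Nat.card (Equiv.Perm (Fin 8)) = 40320 := by
    rw [Nat.card_perm, Nat.card_fin]
    rfl
  have hcO : Nat.card ↥(Cfsg.isometryGroup K (Cfsg.quadFormMinus 2 K a b)) = 51840 := by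
    have h := Cfsg.Agent.S0288.result (F := K) hK 3 (by norm_num) a b hab
    exact h.trans (by norm_num [Finset.prod_range_succ])
  refine sylow_iso (n := 7) _ (((glOf_table ψ).toSubgroup reaches_O).subgroupOf _)
    ⟨u.trans v.symm⟩ ?_ ?_ ?_ P Q
  · rw [evO_table.card_toSubgroup reaches_O hinj]
    rfl
  · rw [hcS, show (40320 : ℕ) = 2 ^ 7 * 315 by norm_num]
    exact factorization_two 7 315 (by norm_num)
  · rw [hcO, show (51840 : ℕ) = 2 ^ 7 * 405 by norm_num]
    exact factorization_two 7 405 (by norm_num)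

end Cfsg.Agent.SylTwoSix
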