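import Cfsg.Agent.SylTwoSix.Data
import Cfsg.Agent.SylTwoSix.Read
import Cfsg.Agent.Lib.Symplectic.Card

/-!
The Sylow 2-subgroups of `A_8` and `PSp_4(3)`.
-/

set_option autoImplicit false

namespace Cfsg.Agent.SylTwoSix

open Matrix

/-- Position of a basis index in the tables. -/
def pos4 : Fin 2 ⊕ Fin 2 → ℕ := Sum.elim (fun i => i.val) (fun i => 2 + i.val)

/-- The matrix in row `x`. -/
def mat4 (x : Fin 64) : Matrix (Fin 2 ⊕ Fin 2) (Fin 2 ⊕ Fin 2) (ZMod 3) :=
  fun i j => Fin.ofNat 3 ((imgA.getD x.val []).getD (pos4 i * 4 + pos4 j) 0)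

def code4 (A : Matrix (Fin 2 ⊕ Fin 2) (Fin 2 ⊕ Fin 2) (ZMod 3)) : List ℕ :=
  let ix : List (Fin 2 ⊕ Fin 2) := [.inl 0, .inl 1, .inr 0, .inr 1]
  ix.flatMap fun i => ix.map fun j => ZMod.val (A i j)

def idx4 (A : Matrix (Fin 2 ⊕ Fin 2) (Fin 2 ⊕ Fin 2) (ZMod 3)) : ℕ :=
  min (imgA.idxOf (code4 A)) (imgA.idxOf (code4 (-A)))

def genA (i : Fin 3) : Fin 64 := Fin.ofNat 64 (i.val + 1)

set_option maxRecDepth 100000 in
theorem permA_inv : ∀ x : Fin 64, ∀ j, pointFn permA (idxOf' invA x) (pointFn permA x j) = j ∧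
    pointFn permA x (pointFn permA (idxOf' invA x) j) = j := by decide +kernel

theorem permA_idx : ∀ x : Fin 64, pointIdx permA (pointFn permA x) = x.val := by decide +kernel

theorem permA_one : ∀ j, pointFn permA (0 : Fin 64) j = j := by decide +kernel

theorem permA_step : ∀ i : Fin 3, ∀ x : Fin 64, ∀ j,
    pointFn permA (genA i) (pointFn permA x j) = pointFn permA (stepOf stepA i x) j := by
  decide +kernel

theorem stepA_reaches : ∀ x : Fin 64, x ≠ 0 →
    (Fin.ofNat 64 ((parA.getD x.val []).getD 1 0)).val < x.val ∧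
      stepOf stepA (Fin.ofNat 3 ((parA.getD x.val []).getD 0 0))
        (Fin.ofNat 64 ((parA.getD x.val []).getD 1 0)) = x := by decide +kernel

theorem mat4_symp : ∀ x : Fin 64,
    mat4 x * Matrix.J (Fin 2) (ZMod 3) * (mat4 x).transpose = Matrix.J (Fin 2) (ZMod 3) := by
  decide +kernel

theorem mat4_one : mat4 0 = 1 := by decide +kernel

theorem mat4_step : ∀ i : Fin 3, ∀ x : Fin 64, mat4 (genA i) * mat4 x = mat4 (stepOf stepA i x) ∨
    mat4 (genA i) * mat4 x = -mat4 (stepOf stepA i x) := by decide +kernel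

theorem mat4_idx : ∀ x : Fin 64, idx4 (mat4 x) = x.val ∧ idx4 (-mat4 x) = x.val := by
  decide +kernel

def evA (x : Fin 64) : Equiv.Perm (Fin 8) := permOf permA invA permA_inv x

theorem evA_sign : ∀ i : Fin 3, Equiv.Perm.sign (evA (genA i)) = 1 := by decide +kernel

theorem reaches_A : Reaches (stepOf (N := 64) stepA) := reaches_of_check stepA_reaches

theorem evA_table : IsTable (stepOf stepA) (fun i => evA (genA i)) evA :=
  permOf_isTable permA_inv genA permA_one permA_step

section

variable {F : Type*} [Field F] (φ : ZMod 3 →+* F)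

theorem J_map : (Matrix.J (Fin 2) (ZMod 3)).map φ = Matrix.J (Fin 2) F := by
  ext (i | i) (j | j) <;> simp [Matrix.J, Matrix.one_apply, apply_ite φ]

theorem mem_symp (x : Fin 64) : (mat4 x).map φ ∈ Matrix.symplecticGroup (Fin 2) F := by
  rw [SymplecticGroup.mem_iff]
  have h := congrArg (fun A => A.map φ) (mat4_symp x)
  simp only [Matrix.map_mul] at h
  rw [J_map, Matrix.transpose_map] at h
  exact h

/-- The element in row `x`. -/
def spOf (x : Fin 64) : Symplectic.Sp 2 F := ⟨(mat4 x).map φ, mem_symp φ x⟩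

/-- Its image in the projective group. -/
def pspOf (x : Fin 64) : Symplectic.Sp 2 F ⧸ Subgroup.center (Symplectic.Sp 2 F) :=
  QuotientGroup.mk (spOf φ x)

theorem mk_negOne :
    (QuotientGroup.mk (Symplectic.negOne : Symplectic.Sp 2 F) :
      Symplectic.Sp 2 F ⧸ Subgroup.center (Symplectic.Sp 2 F)) = 1 :=
  (QuotientGroup.eq_one_iff _).2 (Symplectic.mem_center_iff.2 (Or.inr rfl))

theorem pspOf_table : IsTable (stepOf stepA) (fun i => pspOf φ (genA i)) (pspOf φ) := by
  refine ⟨?_, fun i x => ?_⟩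
  · have h : spOf φ 0 = 1 := Subtype.ext (by simp [spOf, mat4_one])
    rw [pspOf, h]
    rfl
  · rcases mat4_step i x with h | h
    · have h' : spOf φ (genA i) * spOf φ x = spOf φ (stepOf stepA i x) := by
        refine Subtype.ext ?_
        show (mat4 (genA i)).map φ * (mat4 x).map φ = (mat4 (stepOf stepA i x)).map φ
        rw [← Matrix.map_mul, h]
      exact congrArg QuotientGroup.mk h'
    · have h' : spOf φ (genA i) * spOf φ x = Symplectic.negOne * spOf φ (stepOf stepA i x) := by
        refine Subtype.ext ?_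
        show (mat4 (genA i)).map φ * (mat4 x).map φ = -1 * (mat4 (stepOf stepA i x)).map φ
        rw [← Matrix.map_mul, h, neg_one_mul]
        ext a b
        simp
      refine (congrArg QuotientGroup.mk h').trans ?_
      rw [QuotientGroup.mk_mul, mk_negOne, one_mul]
      rfl

theorem pspOf_injective : Function.Injective (pspOf φ) := by
  intro x y hxy
  have hc := Symplectic.mem_center_iff.1 (QuotientGroup.eq.1 hxy)
  have hφ : Function.Injective (fun A : Matrix (Fin 2 ⊕ Fin 2) (Fin 2 ⊕ Fin 2) (ZMod 3) =>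
      A.map φ) := Matrix.map_injective φ.injective
  rcases hc with h | h
  · have h2 : (mat4 x).map φ = (mat4 y).map φ :=
      congrArg Subtype.val (inv_mul_eq_one.1 h)
    exact Fin.ext (by rw [← (mat4_idx x).1, ← (mat4_idx y).1, hφ h2])
  · have h1 : spOf φ y = spOf φ x * Symplectic.negOne := by rw [← h, mul_inv_cancel_left]
    have h2 : (mat4 y).map φ = (mat4 x).map φ * -1 := congrArg Subtype.val h1
    have h3 : mat4 y = -mat4 x := hφ (by
      show (mat4 y).map φ = (-mat4 x).map φ
      rw [h2, mul_neg_one]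
      ext a b
      simp)
    exact Fin.ext (by rw [← (mat4_idx x).2, ← (mat4_idx y).1, h3])

end

theorem sylow_A8_PSp {F : Type*} [Field F] [Fintype F] (hF : Fintype.card F = 3)
    (P : Sylow 2 ↥(alternatingGroup (Fin 8)))
    (Q : Sylow 2 (Symplectic.Sp 2 F ⧸ Subgroup.center (Symplectic.Sp 2 F))) :
    Nonempty (↥(P : Subgroup ↥(alternatingGroup (Fin 8))) ≃* ↥(Q : Subgroup (Symplectic.Sp 2 F ⧸ Subgroup.center (Symplectic.Sp 2 F)))) := by
  have : Fact (Nat.Prime 2) := ⟨Nat.prime_two⟩
  have : Fact (Nat.Prime 3) := ⟨Nat.prime_three⟩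
  let φ : ZMod 3 →+* F := (ZMod.ringEquivOfPrime F Nat.prime_three hF).toRingHom
  have hinj : Function.Injective evA := permOf_injective permA_inv permA_idx
  have hle : evA_table.toSubgroup reaches_A ≤ alternatingGroup (Fin 8) :=
    evA_table.toSubgroup_le reaches_A fun i => Equiv.Perm.mem_alternatingGroup.2 (evA_sign i)
  obtain ⟨u⟩ := evA_table.mulEquiv (pspOf_table φ) reaches_A hinj (pspOf_injective φ)
  obtain ⟨v⟩ := subgroupOf_iso hle
  have hcA : Nat.card ↥(alternatingGroup (Fin 8)) = 20160 := by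
    rw [nat_card_alternatingGroup, Nat.card_fin]
    rfl
  have hcP : Nat.card (Symplectic.Sp 2 F ⧸ Subgroup.center (Symplectic.Sp 2 F)) = 25920 := by
    have h := Symplectic.card_PSp (m := 2) (F := F) hF (by norm_num)
    norm_num [Finset.prod_range_succ] at h
    omega
  refine sylow_iso (n := 6) ((evA_table.toSubgroup reaches_A).subgroupOf _) _ ⟨v.trans u⟩ ?_
    ?_ ?_ P Q
  · rw [Nat.card_congr v.toEquiv, evA_table.card_toSubgroup reaches_A hinj]
    rfl
  · rw [hcA, show (20160 : ℕ) = 2 ^ 6 * 315 by norm_num]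
    exact factorization_two 6 315 (by norm_num)
  · rw [hcP, show (25920 : ℕ) = 2 ^ 6 * 405 by norm_num]
    exact factorization_two 6 405 (by norm_num)

end Cfsg.Agent.SylTwoSix
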